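/-
Extensions of M23 by 11-dimensional modules over the field with two elements, the engine
(owner: helper15).

An extension restricted to the pc series of a Sylow 2-subgroup is given by relator bits
`V (key * 11 + l)`. Overlaps of the rewriting system and conjugation by further elements give
linear equations in the bits (`eq_zero`); the certificate `certOk` says that, after adjusting
the lifts, the relators are a multiple of one fixed vector (`exists_adjusted`).
-/
import Cfsg.Agent.Lib.GolayExt.Data
import Mathlib.Data.ZMod.Basic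
import Mathlib.Algebra.BigOperators.Fin
import Mathlib.Algebra.Group.Basic
import Mathlib.Tactic.Ring
import Mathlib.Tactic.Group

set_option autoImplicit false

namespace Cfsg.Agent.GolayExt

/-- The module as a space of bit vectors. -/
abbrev Vec := Fin 11 → ZMod 2

theorem zmod2_add_self (c : ZMod 2) : c + c = 0 := (by decide : ∀ c : ZMod 2, c + c = 0) c

theorem zmod2_eq_of_add {a b : ZMod 2} (h : a + b = 0) : a = b :=
  (by decide : ∀ a b : ZMod 2, a + b = 0 → a = b) a b h

/-- Value of a linear form given by a mask. -/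
def dot (s : ℕ) (V : ℕ → ZMod 2) : ZMod 2 :=
  ∑ j ∈ Finset.range 1000, if s.testBit j then V j else 0

theorem dot_xor (s t : ℕ) (V : ℕ → ZMod 2) : dot (s ^^^ t) V = dot s V + dot t V := by
  simp only [dot, ← Finset.sum_add_distrib]
  refine Finset.sum_congr rfl fun j _ => ?_
  rw [Nat.testBit_xor]
  cases s.testBit j <;> cases t.testBit j <;> simp [zmod2_add_self]

@[simp] theorem dot_zero (V : ℕ → ZMod 2) : dot 0 V = 0 := by simp [dot]

theorem dot_shift {j : ℕ} (hj : j < 1000) (V : ℕ → ZMod 2) : dot (1 <<< j) V = V j := by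
  rw [dot, Finset.sum_eq_single j]
  · simp [Nat.one_shiftLeft]
  · intro i _ hi
    simp [Nat.one_shiftLeft, Ne.symm hi]
  · intro h
    exact absurd (Finset.mem_range.mpr hj) h

/-- Xor of the entries selected by the bits of a mask. -/
def xorSel : List ℕ → ℕ → ℕ
  | [], _ => 0
  | e :: es, m => bif m % 2 == 1 then e ^^^ xorSel es (m / 2) else xorSel es (m / 2)

theorem dot_xorSel_zero {V : ℕ → ZMod 2} : ∀ (es : List ℕ), (∀ e ∈ es, dot e V = 0) →
    ∀ m, dot (xorSel es m) V = 0
  | [], _, _ => by simp [xorSel]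
  | e :: es, h, m => by
    have ih := dot_xorSel_zero es (fun a ha => h a (List.mem_cons_of_mem _ ha)) (m / 2)
    rw [xorSel]
    cases (m % 2 == 1) <;> simp [dot_xor, ih, h e List.mem_cons_self]

theorem dot_xorSel (V : ℕ → ZMod 2) : ∀ (L : List ℕ) (s n : ℕ), L.length ≤ n →
    dot (xorSel L s) V = ∑ j ∈ Finset.range n, if s.testBit j then dot (L.getD j 0) V else 0
  | [], s, n, _ => by simp [xorSel]
  | e :: es, s, n, hn => by
    obtain ⟨m, rfl⟩ : ∃ m, n = m + 1 := ⟨n - 1, by simp at hn; omega⟩
    have ih := dot_xorSel V es (s / 2) m (by simpa using hn)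
    rw [Finset.sum_range_succ', xorSel]
    simp only [List.getD_cons_succ, List.getD_cons_zero, Nat.testBit_succ, ← ih, Nat.testBit_zero]
    rcases Nat.mod_two_eq_zero_or_one s with h | h <;> simp [h, dot_xor, add_comm]

/-- Entrywise xor of symbolic vectors. -/
def vx : List ℕ → List ℕ → List ℕ
  | [], t => t
  | s, [] => s
  | a :: s, b :: t => (a ^^^ b) :: vx s t

theorem getD_vx : ∀ (s t : List ℕ) (l : ℕ), (vx s t).getD l 0 = s.getD l 0 ^^^ t.getD l 0
  | [], t, l => by simp [vx]
  | a :: s, [], l => by simp [vx]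
  | a :: s, b :: t, 0 => by simp [vx]
  | a :: s, b :: t, l + 1 => by simp only [vx, List.getD_cons_succ]; exact getD_vx s t l

/-- The vector denoted by a symbolic vector. -/
def val (V : ℕ → ZMod 2) (s : List ℕ) : Vec := fun l => dot (s.getD l.val 0) V

theorem val_vx (V : ℕ → ZMod 2) (s t : List ℕ) : val V (vx s t) = val V s + val V t := by
  funext l
  show dot _ V = dot _ V + dot _ V
  rw [getD_vx, dot_xor]

@[simp] theorem val_nil (V : ℕ → ZMod 2) : val V [] = 0 := by funext l; simp [val]

/-- The linear map of a matrix given by the images of the unit vectors. -/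
def act (M : List ℕ) (v : Vec) : Vec :=
  fun l => ∑ k : Fin 11, if (M.getD k.val 0).testBit l.val then v k else 0

/-- The linear map on symbolic vectors. -/
def actS (M s : List ℕ) : List ℕ :=
  (List.range 11).map fun l => (List.range 11).foldr
    (fun k acc => (bif (M.getD k 0).testBit l then s.getD k 0 else 0) ^^^ acc) 0

theorem dot_foldr (V : ℕ → ZMod 2) (f : ℕ → ℕ) : ∀ l : List ℕ,
    dot (l.foldr (fun k acc => f k ^^^ acc) 0) V = (l.map fun k => dot (f k) V).sum
  | [] => by simp
  | a :: l => by simp [dot_xor, dot_foldr V f l]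

theorem sum_list_range (f : ℕ → ZMod 2) : ∀ n : ℕ,
    ((List.range n).map f).sum = ∑ k ∈ Finset.range n, f k
  | 0 => by simp
  | n + 1 => by simp [List.range_succ, Finset.sum_range_succ, sum_list_range f n]

theorem getD_range_map {f : ℕ → ℕ} {n l : ℕ} (hl : l < n) :
    ((List.range n).map f).getD l 0 = f l := by
  simp [List.getD_eq_getElem?_getD, hl]

theorem val_actS (V : ℕ → ZMod 2) (M s : List ℕ) : val V (actS M s) = act M (val V s) := by
  funext l
  rw [val, actS, getD_range_map l.isLt, dot_foldr, sum_list_range, act,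
    Finset.sum_range fun k => dot (bif (M.getD k 0).testBit l.val then s.getD k 0 else 0) V]
  refine Finset.sum_congr rfl fun k _ => ?_
  cases (M.getD k.val 0).testBit l.val <;> simp [val]

/-- Bits of block `b` as a symbolic vector. -/
def unit (b : ℕ) : List ℕ := (List.range 11).map fun l => 1 <<< (b * 11 + l)

/-- The vector in block `b`. -/
def blk (V : ℕ → ZMod 2) (b : ℕ) : Vec := fun l => V (b * 11 + l.val)

theorem val_unit (V : ℕ → ZMod 2) {b : ℕ} (hb : b ≤ 89) : val V (unit b) = blk V b := by
  funext l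
  rw [val, unit, getD_range_map l.isLt, dot_shift (by omega)]
  rfl

/-- Continue with an evaluated number. -/
def forceN {α : Type} (n : ℕ) (k : ℕ → α) : α :=
  match n with
  | 0 => k 0
  | m + 1 => k (m + 1)

theorem forceN_eq {α : Type} (n : ℕ) (k : ℕ → α) : forceN n k = k n := by cases n <;> rfl

/-- Continue with an evaluated list. -/
def forceL {α : Type} : List ℕ → (List ℕ → α) → α
  | [], k => k []
  | a :: l, k => forceN a fun a' => forceL l fun l' => k (a' :: l')

theorem forceL_eq {α : Type} : ∀ (l : List ℕ) (k : List ℕ → α), forceL l k = k l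
  | [], _ => rfl
  | a :: l, k => by rw [forceL, forceN_eq, forceL_eq l]

/-- Block of a pair of generators. -/
def key (a b : ℕ) : ℕ := a * (a + 1) / 2 + b

/-- Normal form of a product of two generators. -/
def rep (a b : ℕ) : List ℕ := repL.getD (key a b) []

theorem key_lt : ∀ a < 7, ∀ b ≤ a, key a b < 28 := by decide +kernel

/-- The matrix of a generator. -/
def mat (S : List (List ℕ)) (a : ℕ) : List ℕ := S.getD (a % 7) []

/-- Rewriting at the first descent. -/
def step (S : List (List ℕ)) : List ℕ → Option (List ℕ × List ℕ)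
  | a :: b :: w =>
    bif Nat.ble b a && Nat.blt a 7 then some (unit (key a b), rep a b ++ w)
    else (step S (b :: w)).map fun r => (actS (mat S a) r.1, a :: r.2)
  | _ => none

/-- Repeated rewriting. -/
def collect (S : List (List ℕ)) : ℕ → List ℕ → List ℕ → List ℕ × List ℕ
  | 0, acc, w => (acc, w)
  | n + 1, acc, w =>
    match step S w with
    | none => (acc, w)
    | some r => forceL (vx acc r.1) fun acc' => forceL r.2 fun w' => collect S n acc' w'

/-- The entries of a symbolic vector. -/
def row (s : List ℕ) : List ℕ := (List.range 11).map fun l => s.getD l 0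

/-- Product of a word. -/
def P {E : Type*} [Monoid E] (x : ℕ → E) (w : List ℕ) : E := (w.map x).prod

section
variable {E : Type*} [Monoid E] (x : ℕ → E)

@[simp] theorem P_nil : P x [] = 1 := rfl

@[simp] theorem P_cons (a : ℕ) (w : List ℕ) : P x (a :: w) = x a * P x w := by simp [P]

theorem P_append (v w : List ℕ) : P x (v ++ w) = P x v * P x w := by simp [P]

end

/-- Concatenation of the words selected by a list. -/
def fl (ws : List (List ℕ)) (l : List ℕ) : List ℕ := l.flatMap fun k => ws.getD k []

/-- Action of a word. -/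
def preAct (S : List (List ℕ)) : List ℕ → List ℕ → List ℕ
  | [], s => s
  | a :: w, s => actS (mat S a) (preAct S w s)

/-- The accumulated unknowns of the images of a word. -/
def tAcc (S : List (List ℕ)) (off : ℕ) (iw : List (List ℕ)) : List ℕ → List ℕ
  | [] => []
  | k :: l => vx (unit (off + k)) (preAct S (iw.getD k []) (tAcc S off iw l))

/-- The accumulated adjustments of a word. -/
def uAcc (S : List (List ℕ)) : List ℕ → List ℕ
  | [] => []
  | a :: w => vx (unit (a % 7)) (actS (mat S a) (uAcc S w))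

/-- Equations of an overlap. -/
def triEq (S : List (List ℕ)) (a b c : ℕ) : List ℕ :=
  match step S [b, c] with
  | none => []
  | some r =>
    let A := collect S 300 [] [a, b, c]
    let B := collect S 300 (actS (mat S a) r.1) (a :: r.2)
    bif A.2 == B.2 then row (vx A.1 B.1) else []

/-- Equations from one relation of a conjugated subgroup. -/
def conjEq (S : List (List ℕ)) (M : List ℕ) (off : ℕ) (qw iw : List (List ℕ)) (l r : List ℕ) :
    List ℕ :=
  let A := collect S 300 [] (fl qw l)
  let B := collect S 300 [] (fl qw r)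
  let C := collect S 300 (tAcc S off iw l) (fl iw l)
  let D := collect S 300 (tAcc S off iw r) (fl iw r)
  bif (A.2 == B.2) && (C.2 == D.2) then row (vx (actS M (vx A.1 B.1)) (vx C.1 D.1)) else []

/-- All equations. -/
def allEqs (S G : List (List ℕ)) : List ℕ :=
  (trips.flatMap fun t => triEq S t.1 t.2.1 t.2.2) ++
    (List.range 4).flatMap fun c => (cjR.getD c []).flatMap fun r =>
      conjEq S (G.getD c []) (cjOff.getD c 0) (cjQ.getD c []) (cjI.getD c []) r.1 r.2

/-- The adjustment table is right. -/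
def deltaOk (S : List (List ℕ)) (dl : List ℕ) : Bool :=
  (List.range 7).all fun a => (List.range (a + 1)).all fun b =>
    forceL (vx (uAcc S [a, b]) (uAcc S (rep a b))) fun d =>
      (List.range 11).all fun l => dl.getD (key a b * 11 + l) 0 == d.getD l 0

/-- The certificate. -/
def certOk (eqs L combos dl : List ℕ) (v0 cF : ℕ) : Bool :=
  Nat.ble L.length 1000 && (List.range 308).all fun k =>
    xorSel eqs (combos.getD k 0) ==
      (1 <<< k) ^^^ xorSel L (dl.getD k 0) ^^^ (bif v0.testBit k then cF else 0)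

/-- A block of 28 rows of the certificate. -/
def certPart (eqs L combos dl : List ℕ) (v0 cF b : ℕ) : Bool :=
  (List.range' (b * 28) 28).all fun k =>
    xorSel eqs (combos.getD k 0) ==
      (1 <<< k) ^^^ xorSel L (dl.getD k 0) ^^^ (bif v0.testBit k then cF else 0)

theorem certOk_of_parts {eqs L combos dl : List ℕ} {v0 cF : ℕ} (hL : Nat.ble L.length 1000 = true)
    (h : ∀ b < 11, certPart eqs L combos dl v0 cF b = true) :
    certOk eqs L combos dl v0 cF = true := by
  simp only [certOk, Bool.and_eq_true, List.all_eq_true, List.mem_range]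
  refine ⟨hL, fun k hk => ?_⟩
  exact List.all_eq_true.1 (h (k / 28) (by omega)) k (List.mem_range'_1.2 ⟨by omega, by omega⟩)

theorem cj_ok : ∀ c < 4, cjOff.getD c 0 + (cjQ.getD c []).length ≤ 90 ∧
    ∀ r ∈ cjR.getD c [], ∀ k ∈ r.1 ++ r.2, k < (cjQ.getD c []).length := by decide +kernel

/-- An extension, seen from lifts of the pc series and of the conjugating elements. -/
structure Sys (S G : List (List ℕ)) (E : Type*) [Group E] where
  /-- The embedding of the module. -/
  ι : Vec → E
  add : ∀ v w, ι (v + w) = ι v * ι w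
  inj : Function.Injective ι
  /-- The lifts of the pc series. -/
  x : ℕ → E
  hact : ∀ a v, x a * ι v * (x a)⁻¹ = ι (act (mat S a) v)
  /-- The unknown bits. -/
  V : ℕ → ZMod 2
  hrel : ∀ a < 7, ∀ b ≤ a, x a * x b = ι (blk V (key a b)) * P x (rep a b)
  /-- The lifts of the conjugating elements. -/
  y : ℕ → E
  yact : ∀ c < 4, ∀ v, y c * ι v * (y c)⁻¹ = ι (act (G.getD c []) v)
  yrel : ∀ c < 4, ∀ k < (cjQ.getD c []).length,
    y c * P x ((cjQ.getD c []).getD k []) * (y c)⁻¹ =
      ι (blk V (cjOff.getD c 0 + k)) * P x ((cjI.getD c []).getD k [])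

namespace Sys

variable {S G : List (List ℕ)} {E : Type*} [Group E] (Y : Sys S G E)

theorem map_zero : Y.ι 0 = 1 := by
  have h := Y.add 0 0
  rw [add_zero] at h
  simpa using h

theorem move (a : ℕ) (v : Vec) : Y.x a * Y.ι v = Y.ι (act (mat S a) v) * Y.x a := by
  rw [← Y.hact]; group

theorem move_word : ∀ (w : List ℕ) (s : List ℕ),
    P Y.x w * Y.ι (val Y.V s) = Y.ι (val Y.V (preAct S w s)) * P Y.x w
  | [], s => by simp [preAct]
  | a :: w, s => by
    rw [P_cons, mul_assoc, move_word w s, ← mul_assoc, Y.move, preAct, val_actS, mul_assoc]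

theorem step_sound : ∀ (w : List ℕ) (r : List ℕ × List ℕ), step S w = some r →
    P Y.x w = Y.ι (val Y.V r.1) * P Y.x r.2
  | [], r, h => by simp [step] at h
  | [a], r, h => by simp [step] at h
  | a :: b :: w, r, h => by
    rw [step] at h
    cases hc : (Nat.ble b a && Nat.blt a 7) with
    | true =>
      rw [hc, cond_true, Option.some.injEq] at h
      subst h
      simp only [Bool.and_eq_true, Nat.ble_eq, Nat.blt_eq] at hc
      have hk := key_lt a hc.2 b hc.1
      rw [P_cons, P_cons, ← mul_assoc, Y.hrel a hc.2 b hc.1, val_unit _ (by omega), P_append,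
        mul_assoc]
    | false =>
      rw [hc, cond_false, Option.map_eq_some_iff] at h
      obtain ⟨q, hq, rfl⟩ := h
      rw [P_cons, step_sound (b :: w) q hq, ← mul_assoc, Y.move, val_actS, P_cons, mul_assoc]

theorem collect_sound : ∀ (n : ℕ) (acc w : List ℕ),
    Y.ι (val Y.V (collect S n acc w).1) * P Y.x (collect S n acc w).2 =
      Y.ι (val Y.V acc) * P Y.x w
  | 0, acc, w => rfl
  | n + 1, acc, w => by
    rw [collect]
    split
    · rfl
    · next r hr =>
      simp only [forceL_eq]
      rw [collect_sound n, val_vx, Y.add, mul_assoc, ← Y.step_sound w r hr]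

theorem collect_nil (n : ℕ) (w : List ℕ) :
    P Y.x w = Y.ι (val Y.V (collect S n [] w).1) * P Y.x (collect S n [] w).2 := by
  rw [Y.collect_sound, val_nil, Y.map_zero, one_mul]

theorem val_eq_of_eq {s t : List ℕ} {p : E} (h : Y.ι (val Y.V s) * p = Y.ι (val Y.V t) * p) :
    val Y.V (vx s t) = 0 := by
  rw [val_vx, Y.inj (mul_right_cancel h)]
  funext l
  exact zmod2_add_self _

theorem dot_row {s : List ℕ} (h : val Y.V s = 0) : ∀ e ∈ row s, dot e Y.V = 0 := by
  intro e he
  simp only [row, List.mem_map, List.mem_range] at he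
  obtain ⟨l, hl, rfl⟩ := he
  exact congrFun h ⟨l, hl⟩

theorem triEq_zero (a b c : ℕ) : ∀ e ∈ triEq S a b c, dot e Y.V = 0 := by
  intro e he
  unfold triEq at he
  split at he
  · simp at he
  · next r hr =>
    cases hc : ((collect S 300 [] [a, b, c]).2 ==
        (collect S 300 (actS (mat S a) r.1) (a :: r.2)).2) with
    | false => simp [hc] at he
    | true =>
      simp only [hc, cond_true] at he
      refine Y.dot_row (Y.val_eq_of_eq
        (p := P Y.x (collect S 300 [] [a, b, c]).2) ?_) e he
      rw [← Y.collect_nil, beq_iff_eq.mp hc, Y.collect_sound, val_actS, P_cons Y.x a [b, c],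
        Y.step_sound _ r hr, ← mul_assoc, Y.move, P_cons, mul_assoc]

theorem tAcc_sound (c : ℕ) (hc : c < 4) : ∀ l : List ℕ,
    (∀ k ∈ l, k < (cjQ.getD c []).length) →
    Y.y c * P Y.x (fl (cjQ.getD c []) l) * (Y.y c)⁻¹ =
      Y.ι (val Y.V (tAcc S (cjOff.getD c 0) (cjI.getD c []) l)) *
        P Y.x (fl (cjI.getD c []) l)
  | [], _ => by simp [fl, tAcc, Y.map_zero]
  | k :: l, h => by
    have hk := h k List.mem_cons_self
    have ih := tAcc_sound c hc l fun j hj => h j (List.mem_cons_of_mem _ hj)
    have hsplit : ∀ ws, P Y.x (fl ws (k :: l)) = P Y.x (ws.getD k []) * P Y.x (fl ws l) := by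
      intro ws; simp [fl, P_append]
    have hb : cjOff.getD c 0 + k ≤ 89 := by have := (cj_ok c hc).1; omega
    calc _ = (Y.y c * P Y.x ((cjQ.getD c []).getD k []) * (Y.y c)⁻¹) *
          (Y.y c * P Y.x (fl (cjQ.getD c []) l) * (Y.y c)⁻¹) := by rw [hsplit]; group
      _ = _ := by
        rw [Y.yrel c hc k hk, ih, hsplit, tAcc, val_vx, Y.add, val_unit _ hb,
          mul_assoc, ← mul_assoc (P Y.x _) (Y.ι _), Y.move_word]
        simp only [mul_assoc]

theorem conjEq_zero {c : ℕ} (hc : c < 4) (l r : List ℕ)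
    (hl : ∀ k ∈ l, k < (cjQ.getD c []).length) (hr : ∀ k ∈ r, k < (cjQ.getD c []).length) :
    ∀ e ∈ conjEq S (G.getD c []) (cjOff.getD c 0) (cjQ.getD c []) (cjI.getD c []) l r,
      dot e Y.V = 0 := by
  intro e he
  simp only [conjEq] at he
  set A := collect S 300 [] (fl (cjQ.getD c []) l) with hA
  set B := collect S 300 [] (fl (cjQ.getD c []) r) with hB
  set C := collect S 300 (tAcc S (cjOff.getD c 0) (cjI.getD c []) l) (fl (cjI.getD c []) l)
    with hC
  set D := collect S 300 (tAcc S (cjOff.getD c 0) (cjI.getD c []) r) (fl (cjI.getD c []) r)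
    with hD
  cases hcd : (A.2 == B.2 && C.2 == D.2) with
  | false => simp [hcd] at he
  | true =>
    simp only [hcd, cond_true] at he
    simp only [Bool.and_eq_true, beq_iff_eq] at hcd
    refine Y.dot_row (Y.val_eq_of_eq (p := P Y.x C.2) ?_) e he
    have h1 : Y.y c * P Y.x (fl (cjQ.getD c []) l) * (Y.y c)⁻¹ =
        Y.ι (val Y.V C.1) * P Y.x C.2 := by rw [Y.tAcc_sound c hc l hl, hC, Y.collect_sound]
    have h2 : Y.y c * P Y.x (fl (cjQ.getD c []) r) * (Y.y c)⁻¹ =
        Y.ι (val Y.V D.1) * P Y.x C.2 := by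
      rw [Y.tAcc_sound c hc r hr, hcd.2, hD, Y.collect_sound]
    have hBA : P Y.x (fl (cjQ.getD c []) l) =
        Y.ι (val Y.V (vx A.1 B.1)) * P Y.x (fl (cjQ.getD c []) r) := by
      have e : val Y.V (vx A.1 B.1) + val Y.V B.1 = val Y.V A.1 := by
        rw [val_vx, add_assoc]
        have : val Y.V B.1 + val Y.V B.1 = 0 := funext fun _ => zmod2_add_self _
        rw [this, add_zero]
      rw [Y.collect_nil 300 (fl (cjQ.getD c []) r), ← hB, ← mul_assoc, ← Y.add, e,
        Y.collect_nil 300 (fl (cjQ.getD c []) l), ← hA, hcd.1]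
    have h3 : Y.y c * P Y.x (fl (cjQ.getD c []) l) * (Y.y c)⁻¹ =
        Y.ι (act (G.getD c []) (val Y.V (vx A.1 B.1))) *
          (Y.y c * P Y.x (fl (cjQ.getD c []) r) * (Y.y c)⁻¹) := by
      rw [hBA, ← Y.yact c hc]; group
    rw [h1, h2, ← mul_assoc, ← Y.add] at h3
    rw [val_actS]
    have h4 : act (G.getD c []) (val Y.V (vx A.1 B.1)) =
        val Y.V C.1 + val Y.V D.1 := by
      have h5 := Y.inj (mul_right_cancel h3)
      funext i
      rw [Pi.add_apply, h5, Pi.add_apply]
      simp [add_assoc, zmod2_add_self]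
    rw [h4, val_vx]

theorem eq_zero : ∀ e ∈ allEqs S G, dot e Y.V = 0 := by
  intro e he
  simp only [allEqs, List.mem_append, List.mem_flatMap, List.mem_range] at he
  rcases he with ⟨t, _, he⟩ | ⟨c, hc, r, hr, he⟩
  · exact Y.triEq_zero _ _ _ e he
  · exact Y.conjEq_zero hc r.1 r.2 (fun k hk => (cj_ok c hc).2 r hr k (List.mem_append_left _ hk))
      (fun k hk => (cj_ok c hc).2 r hr k (List.mem_append_right _ hk)) e he

/-- The adjusted lifts. -/
def adj (U : ℕ → ZMod 2) (a : ℕ) : E := Y.ι (blk U (a % 7)) * Y.x a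

theorem uAcc_sound (U : ℕ → ZMod 2) : ∀ w : List ℕ,
    P (Y.adj U) w = Y.ι (val U (uAcc S w)) * P Y.x w
  | [] => by simp [uAcc, Y.map_zero]
  | a :: w => by
    rw [P_cons, uAcc_sound U w, adj, uAcc, val_vx, val_unit _ (by omega), val_actS, Y.add,
      mul_assoc, ← mul_assoc (Y.x a), Y.move, P_cons]
    simp only [mul_assoc]

/-- A linear form pulled back along a list of linear forms. -/
theorem dot_comp (L : List ℕ) (s : ℕ) (V : ℕ → ZMod 2) :
    (∑ j ∈ Finset.range 1000, if s.testBit j then dot (L.getD j 0) V else 0) =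
      dot s (fun j => dot (L.getD j 0) V) :=
  (dot.eq_def s _).symm

theorem exists_adjusted {eqs L combos dl : List ℕ} {v0 cF : ℕ} (heq : allEqs S G = eqs)
    (hd : deltaOk S dl = true) (hcert : certOk eqs L combos dl v0 cF = true) :
    ∃ (x' : ℕ → E) (c : ZMod 2), (∀ a, ∃ v, x' a = Y.ι v * Y.x a) ∧
      ∀ a < 7, ∀ b ≤ a, x' a * x' b =
        Y.ι (fun l => if v0.testBit (key a b * 11 + l.val) then c else 0) * P x' (rep a b) := by
  simp only [certOk, Bool.and_eq_true, Nat.ble_eq, List.all_eq_true, List.mem_range,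
    beq_iff_eq] at hcert
  simp only [deltaOk, forceL_eq, List.all_eq_true, List.mem_range, beq_iff_eq] at hd
  let U : ℕ → ZMod 2 := fun j => dot (L.getD j 0) Y.V
  refine ⟨Y.adj U, dot cF Y.V, fun a => ⟨_, rfl⟩, fun a ha b hb => ?_⟩
  have h0 := Y.uAcc_sound U [a, b]
  simp only [P_cons, P_nil, mul_one] at h0
  rw [h0, Y.hrel a ha b hb, ← mul_assoc, ← Y.add]
  have h1 := Y.uAcc_sound U (rep a b)
  rw [h1, ← mul_assoc (Y.ι _) (Y.ι _), ← Y.add]
  refine congrArg (fun z => Y.ι z * P Y.x (rep a b)) ?_
  funext l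
  have hk := key_lt a ha b hb
  have hkl : key a b * 11 + l.val < 308 := by omega
  have hz : dot (xorSel eqs (combos.getD (key a b * 11 + l.val) 0)) Y.V = 0 :=
    dot_xorSel_zero eqs (heq ▸ Y.eq_zero) _
  rw [hcert.2 _ hkl, dot_xor, dot_xor, dot_shift (by omega),
    dot_xorSel Y.V L _ 1000 hcert.1, hd a ha b (by omega) l.val l.isLt,
    getD_vx] at hz
  rw [dot_comp, dot_xor] at hz
  show dot ((uAcc S [a, b]).getD l.val 0) U + Y.V (key a b * 11 + l.val) =
    (if v0.testBit (key a b * 11 + l.val) then dot cF Y.V else 0) +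
      dot ((uAcc S (rep a b)).getD l.val 0) U
  revert hz
  cases v0.testBit (key a b * 11 + l.val)
  all_goals
    simp only [cond_true, cond_false, dot_zero, if_true, Bool.false_eq_true, if_false]
    generalize Y.V (key a b * 11 + l.val) = p, dot ((uAcc S [a, b]).getD l.val 0) U = q,
      dot ((uAcc S (rep a b)).getD l.val 0) U = r, dot cF Y.V = s
    revert p q r s
    decide

end Sys

end Cfsg.Agent.GolayExt
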