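/-
Extensions of M23 by 11-dimensional modules over the field with two elements, group theory
(owner: helper15): the permutations of the data, a complement from lifts satisfying the relations
of the Sylow 2-subgroup (`complement_of_rels`, by Gaschütz), and the adjusted lifts of an
extension (`Mod.exists_lifts`).
-/
import Cfsg.Agent.Lib.GolayExt.Engine
import Cfsg.Agent.Lib.Golay.Generators
import Cfsg.Agent.Lib.Golay.Mathieu
import Cfsg.Agent.Lib.Solvable.Gaschutz

set_option autoImplicit false
open Cfsg
open Cfsg.Agent.Golay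

namespace Cfsg.Agent.GolayExt

/-- Code of a generator. -/
def serN (a : ℕ) : ℕ := serC.getD (a % 7) idCode

/-- Code of a conjugating element. -/
def cjN (c : ℕ) : ℕ := cjC.getD c idCode

/-- `d` codes an element of M23. -/
def inM23 (d : ℕ) : Bool := isAut d && fn d 23 == 23

theorem mem_M23_of_code {d : ℕ} (h : inM23 d = true) : toPerm d ∈ Spor.M23 := by
  simp only [inM23, Bool.and_eq_true, beq_iff_eq] at h
  have hv := validPerm_of_isAut h.1
  refine ⟨toPerm_mem_M24 h.1, ?_⟩
  show toPerm d none = none
  refine idx_injective ?_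
  rw [idx_toPerm hv]
  exact h.2

theorem inM23_serN (a : ℕ) : inM23 (serN a) = true := by
  have h : ∀ k < 7, inM23 (serC.getD k idCode) = true := by decide +kernel
  exact h _ (Nat.mod_lt _ (by norm_num))

theorem inM23_cjN : ∀ c < 4, inM23 (cjN c) = true := by decide +kernel

/-- A generator as an element of M23. -/
noncomputable def serG (a : ℕ) : ↥Spor.M23 := ⟨toPerm (serN a), mem_M23_of_code (inM23_serN a)⟩

/-- A conjugating element as an element of M23. -/
noncomputable def cjG (c : ℕ) : ↥Spor.M23 :=
  if h : inM23 (cjN c) = true then ⟨toPerm (cjN c), mem_M23_of_code h⟩ else 1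

theorem cjG_val {c : ℕ} (hc : c < 4) :
    (cjG c : Equiv.Perm GolayPt) = toPerm (cjN c) := by
  rw [cjG, dif_pos (inM23_cjN c hc)]

/-- Image of a bit under a word. -/
def app : List ℕ → ℕ → ℕ
  | [], i => i
  | a :: w, i => fn (serN a) (app w i)

theorem idx_P : ∀ (w : List ℕ) (p : GolayPt),
    idx (((P serG w : ↥Spor.M23) : Equiv.Perm GolayPt) p) = app w (idx p)
  | [], p => by simp [app]
  | a :: w, p => by
    rw [P_cons, Subgroup.coe_mul, Equiv.Perm.mul_apply, app, ← idx_P w p]
    exact idx_toPerm (validPerm_of_isAut (Bool.and_eq_true_iff.mp (inM23_serN a)).1) _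

theorem P_eq_of_app {v w : List ℕ} (h : ∀ i < 24, app v i = app w i) : P serG v = P serG w :=
  Subtype.ext (Equiv.ext fun p => idx_injective (by rw [idx_P, idx_P]; exact h _ (idx_lt p)))

theorem serG_rel {a b : ℕ} (ha : a < 7) (hb : b ≤ a) :
    serG a * serG b = P serG (rep a b) := by
  have h : ∀ a < 7, ∀ b ≤ a, ∀ i < 24, app [a, b] i = app (rep a b) i := by decide +kernel
  have := P_eq_of_app (h a ha b hb)
  simpa using this

theorem cjG_rel {c : ℕ} (hc : c < 4) {k : ℕ} (hk : k < (cjQ.getD c []).length) :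
    cjG c * P serG ((cjQ.getD c []).getD k []) * (cjG c)⁻¹ =
      P serG ((cjI.getD c []).getD k []) := by
  have h : ∀ c < 4, ∀ k < (cjQ.getD c []).length, ∀ i < 24,
      fn (cjN c) (app ((cjQ.getD c []).getD k []) i) =
        app ((cjI.getD c []).getD k []) (fn (cjN c) i) := by decide +kernel
  rw [mul_inv_eq_iff_eq_mul]
  refine Subtype.ext (Equiv.ext fun p => idx_injective ?_)
  have hv := validPerm_of_isAut (Bool.and_eq_true_iff.mp (inM23_cjN c hc)).1
  rw [Subgroup.coe_mul, Subgroup.coe_mul, Equiv.Perm.mul_apply, Equiv.Perm.mul_apply, cjG_val hc,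
    idx_toPerm hv, idx_P, idx_P, idx_toPerm hv]
  exact h c hc k hk _ (idx_lt p)

theorem map_P {A B : Type*} [Monoid A] [Monoid B] (f : A →* B) (x : ℕ → A) (g : ℕ → B)
    (h : ∀ a, f (x a) = g a) : ∀ w, f (P x w) = P g w
  | [] => by simp
  | a :: w => by rw [P_cons, map_mul, h, map_P f x g h w, P_cons]

/-! ### Lifts satisfying the relations give a complement -/

/-- Rewriting at the first descent, words only. -/
def wstep : List ℕ → Option (List ℕ)
  | a :: b :: w =>
    bif Nat.ble b a && Nat.blt a 7 then some (rep a b ++ w) else (wstep (b :: w)).map (a :: ·)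
  | _ => none

/-- Repeated rewriting, words only. -/
def wcollect : ℕ → List ℕ → List ℕ
  | 0, w => w
  | n + 1, w =>
    match wstep w with
    | none => w
    | some w' => forceL w' fun w'' => wcollect n w''

/-- The ascending word of a mask. -/
def bw (v : ℕ) : List ℕ := (List.range 7).filter fun i => v.testBit i

/-- The mask of a word. -/
def wcode (w : List ℕ) : ℕ := w.foldr (fun a acc => (1 <<< a) ||| acc) 0

/-- The pc words are closed under right multiplication by generators. -/
def tblOk : Bool :=
  (List.range 128).all fun v => (List.range 7).all fun a =>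
    forceL (wcollect 300 (bw v ++ [a])) fun w =>
      Nat.blt (wcode w) 128 && bw (wcode w) == w

theorem tblOk_true : tblOk = true := by decide +kernel

theorem bw_lt : ∀ v < 128, ∀ a ∈ bw v, a < 7 := by decide +kernel

section zero

variable {F : Type*} [Group F] (x : ℕ → F)
  (hrel : ∀ a < 7, ∀ b ≤ a, x a * x b = P x (rep a b))

include hrel

theorem wstep_sound : ∀ (w r : List ℕ), wstep w = some r → P x w = P x r
  | [], r, h => by simp [wstep] at h
  | [a], r, h => by simp [wstep] at h
  | a :: b :: w, r, h => by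
    rw [wstep] at h
    cases hc : (Nat.ble b a && Nat.blt a 7) with
    | true =>
      rw [hc, cond_true, Option.some.injEq] at h
      subst h
      simp only [Bool.and_eq_true, Nat.ble_eq, Nat.blt_eq] at hc
      rw [P_cons, P_cons, ← mul_assoc, hrel a hc.2 b hc.1, P_append]
    | false =>
      rw [hc, cond_false, Option.map_eq_some_iff] at h
      obtain ⟨q, hq, rfl⟩ := h
      rw [P_cons, wstep_sound (b :: w) q hq, ← P_cons]

theorem wcollect_sound : ∀ (n : ℕ) (w : List ℕ), P x (wcollect n w) = P x w
  | 0, w => rfl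
  | n + 1, w => by
    rw [wcollect]
    split
    · rfl
    · next r hr => rw [forceL_eq, wcollect_sound n, wstep_sound x hrel w r hr]

theorem exists_P_mul : ∀ (w : List ℕ), (∀ a ∈ w, a < 7) → ∀ v < 128,
    ∃ u < 128, P x (bw v) * P x w = P x (bw u)
  | [], _, v, hv => ⟨v, hv, by simp⟩
  | a :: w, hw, v, hv => by
    have h := tblOk_true
    simp only [tblOk, forceL_eq, List.all_eq_true, List.mem_range, Bool.and_eq_true, Nat.blt_eq,
      beq_iff_eq] at h
    obtain ⟨h1, h2⟩ := h v hv a (hw a List.mem_cons_self)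
    obtain ⟨u, hu, he⟩ := exists_P_mul w (fun b hb => hw b (List.mem_cons_of_mem _ hb)) _ h1
    refine ⟨u, hu, ?_⟩
    rw [← he, h2, wcollect_sound x hrel, P_append, P_cons, P_cons, P_nil, mul_one, mul_assoc]

end zero

/-- A number determining a permutation. -/
def appCode (w : List ℕ) : ℕ := (List.range 24).foldr (fun i acc => app w i + 32 * acc) 0

theorem appCode_nodup : ((List.range 128).map fun v => appCode (bw v)).Nodup := by decide +kernel

theorem P_serG_inj {v u : ℕ} (hv : v < 128) (hu : u < 128)
    (h : P serG (bw v) = P serG (bw u)) : v = u := by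
  refine List.inj_on_of_nodup_map appCode_nodup (List.mem_range.mpr hv) (List.mem_range.mpr hu) ?_
  have hi : ∀ i ∈ List.range 24, app (bw v) i = app (bw u) i := by
    intro i hi
    have e := congrArg (fun g : ↥Spor.M23 => idx ((g : Equiv.Perm GolayPt) (pt i))) h
    simp only [idx_P, idx_pt (List.mem_range.mp hi)] at e
    exact e
  unfold appCode
  revert hi
  generalize List.range 24 = L
  intro hi
  induction L with
  | nil => rfl
  | cons a l ih =>
    simp only [List.foldr_cons]
    rw [hi a List.mem_cons_self, ih fun i h => hi i (List.mem_cons_of_mem _ h)]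

/-- **Gaschütz for M23**: lifts of the pc series satisfying its relations give a complement. -/
theorem complement_of_rels {F : Type*} [Group F] [Finite F] (f : F →* ↥Spor.M23)
    (hf : Function.Surjective f) (hK : IsMulCommutative f.ker)
    (h2 : ∃ k, Nat.card f.ker = 2 ^ k) (x : ℕ → F) (hx : ∀ a, f (x a) = serG a)
    (hrel : ∀ a < 7, ∀ b ≤ a, x a * x b = P x (rep a b)) :
    ∃ H : Subgroup F, H ⊓ f.ker = ⊥ ∧ H ⊔ f.ker = ⊤ := by
  let T : Submonoid F :=
    { carrier := {t | ∃ v < 128, t = P x (bw v)}
      one_mem' := ⟨0, by norm_num, by rw [show bw 0 = [] by decide +kernel, P_nil]⟩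
      mul_mem' := by
        rintro s t ⟨v, hv, rfl⟩ ⟨u, hu, rfl⟩
        exact exists_P_mul x hrel _ (bw_lt u hu) v hv }
  let A : Subgroup F :=
    { T with
      inv_mem' := by
        intro t ht
        obtain ⟨n, hn⟩ := mem_powers_iff_mem_zpowers.mpr (Subgroup.zpowers t |>.inv_mem
          (Subgroup.mem_zpowers t))
        have := T.pow_mem ht n
        rwa [show t ^ n = t⁻¹ from hn] at this }
  have hA : ∀ t, t ∈ A ↔ ∃ v < 128, t = P x (bw v) := fun _ => Iff.rfl
  have himg : ∀ v, f (P x (bw v)) = P serG (bw v) := fun v => map_P f x serG hx _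
  have hinj : ∀ v < 128, ∀ u < 128, f (P x (bw v)) = f (P x (bw u)) → v = u := by
    intro v hv u hu h
    rw [himg, himg] at h
    exact P_serG_inj hv hu h
  have hAK : A ⊓ f.ker = ⊥ := by
    refine (Subgroup.eq_bot_iff_forall _).mpr fun t ht => ?_
    obtain ⟨⟨v, hv, rfl⟩, hk⟩ := ht
    have := hinj v hv 0 (by norm_num) (by
      rw [show f (P x (bw v)) = 1 from hk, show bw 0 = [] by decide +kernel, P_nil, map_one])
    subst this
    rw [show bw 0 = [] by decide +kernel, P_nil]
  have hcardA : Nat.card (A.map f) = 128 := by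
    have e : ((A.map f : Subgroup ↥Spor.M23) : Set ↥Spor.M23) =
        ↑((Finset.range 128).image fun v => f (P x (bw v))) := by
      ext g
      simp only [Subgroup.coe_map, Set.mem_image, SetLike.mem_coe, hA, Finset.coe_image,
        Finset.coe_range, Set.mem_Iio]
      constructor
      · rintro ⟨t, ⟨v, hv, rfl⟩, rfl⟩
        exact ⟨v, hv, rfl⟩
      · rintro ⟨v, hv, rfl⟩
        exact ⟨_, ⟨v, hv, rfl⟩, rfl⟩
    rw [← SetLike.coe_sort_coe, Nat.card_coe_set_eq, e, Set.ncard_coe_finset,
      Finset.card_image_of_injOn, Finset.card_range]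
    intro v hv u hu h
    exact hinj v (Finset.mem_range.mp hv) u (Finset.mem_range.mp hu) h
  have hidx : (A.map f).index = 79695 := by
    have h := (A.map f).index_mul_card
    rw [hcardA, show Nat.card ↥Spor.M23 = 10200960 from natCard_m23 _] at h
    omega
  have hU : f.ker ⊔ A = (A.map f).comap f := by rw [Subgroup.comap_map_eq, sup_comm]
  have hcop : (Nat.card f.ker).Coprime (f.ker ⊔ A).index := by
    obtain ⟨k, hk⟩ := h2
    rw [hU, Subgroup.index_comap_of_surjective _ hf, hidx, hk]
    exact Nat.Coprime.pow_left _ (by norm_num)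
  obtain ⟨H, hH⟩ := Solvable.gaschutz_exists (K := f.ker) le_sup_left hcop hAK rfl
  exact ⟨H, by rw [inf_comm]; exact disjoint_iff.mp hH.disjoint, by rw [sup_comm]; exact hH.sup_eq_top⟩

/-! ### Extensions -/

/-- An extension of M23 by a module given by matrices for the elements of the data. -/
structure Mod (S G : List (List ℕ)) (E : Type*) [Group E] where
  /-- The embedding. -/
  ι : Vec → E
  add : ∀ v w, ι (v + w) = ι v * ι w
  inj : Function.Injective ι
  /-- The projection. -/
  f : E →* ↥Spor.M23
  surj : Function.Surjective f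
  ker : ∀ e, f e = 1 ↔ ∃ v, ι v = e
  actS : ∀ a e, f e = serG a → ∀ v, e * ι v * e⁻¹ = ι (act (mat S a) v)
  actG : ∀ c < 4, ∀ e, f e = cjG c → ∀ v, e * ι v * e⁻¹ = ι (act (G.getD c []) v)

namespace Mod

variable {S G : List (List ℕ)} {E : Type*} [Group E] (M : Mod S G E)

/-- The lifts and unknowns of an extension form a system. -/
theorem exists_sys : ∃ Y : Sys S G E, Y.ι = M.ι ∧ ∀ a, M.f (Y.x a) = serG a := by
  classical
  choose x hx using fun a => M.surj (serG a)
  choose y hy using fun c => M.surj (cjG c)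
  have hr : ∀ a b, ∃ v, a < 7 → b ≤ a → x a * x b = M.ι v * P x (rep a b) := by
    intro a b
    by_cases h : a < 7 ∧ b ≤ a
    · obtain ⟨v, hv⟩ := (M.ker (x a * x b * (P x (rep a b))⁻¹)).mp (by
        rw [map_mul, map_inv, map_mul, hx, hx, map_P M.f x serG hx, serG_rel h.1 h.2,
          mul_inv_cancel])
      exact ⟨v, fun _ _ => by rw [hv]; group⟩
    · exact ⟨0, fun h1 h2 => absurd ⟨h1, h2⟩ h⟩
  choose r hr using hr
  have ht : ∀ c k, ∃ v, c < 4 → k < (cjQ.getD c []).length →
      y c * P x ((cjQ.getD c []).getD k []) * (y c)⁻¹ =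
        M.ι v * P x ((cjI.getD c []).getD k []) := by
    intro c k
    by_cases h : c < 4 ∧ k < (cjQ.getD c []).length
    · obtain ⟨v, hv⟩ := (M.ker (y c * P x ((cjQ.getD c []).getD k []) * (y c)⁻¹ *
          (P x ((cjI.getD c []).getD k []))⁻¹)).mp (by
        rw [map_mul, map_inv, map_mul, map_mul, map_inv, hy, map_P M.f x serG hx,
          map_P M.f x serG hx, cjG_rel h.1 h.2, mul_inv_cancel])
      exact ⟨v, fun _ _ => by rw [hv]; group⟩
    · exact ⟨0, fun h1 h2 => absurd ⟨h1, h2⟩ h⟩
  choose t ht using ht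
  let rV : ℕ → Vec := fun b =>
    (((List.range 7).flatMap fun a => (List.range (a + 1)).map fun c => r a c).getD b 0)
  let tV : ℕ → Vec := fun b =>
    (((List.range 4).flatMap fun c =>
      (List.range (cjQ.getD c []).length).map fun k => t c k).getD b 0)
  let V : ℕ → ZMod 2 := fun j =>
    if j / 11 < 28 then rV (j / 11) ⟨j % 11, Nat.mod_lt _ (by norm_num)⟩
    else tV (j / 11 - 28) ⟨j % 11, Nat.mod_lt _ (by norm_num)⟩
  have hblk : ∀ b, blk V b = if b < 28 then rV b else tV (b - 28) := by
    intro b
    funext l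
    have hl := l.isLt
    have h1 : (b * 11 + l.val) / 11 = b := by omega
    have h2 : (b * 11 + l.val) % 11 = l.val := by omega
    simp only [blk, V, h1, h2]
    split <;> rfl
  refine ⟨{
    ι := M.ι, add := M.add, inj := M.inj, x := x, V := V, y := y
    hact := fun a v => M.actS a (x a) (hx a) v
    hrel := fun a ha b hb => ?_
    yact := fun c hc v => M.actG c hc (y c) (hy c) v
    yrel := fun c hc k hk => ?_ }, rfl, hx⟩
  · rw [hblk, if_pos (key_lt a ha b hb)]
    have e : rV (key a b) = r a b := by
      interval_cases a <;> interval_cases b <;> rfl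
    rw [e]
    exact hr a b ha hb
  · have hoff : 28 ≤ cjOff.getD c 0 := by
      have : ∀ c < 4, 28 ≤ cjOff.getD c 0 := by decide +kernel
      exact this c hc
    rw [hblk, if_neg (by omega)]
    have e : tV (cjOff.getD c 0 + k - 28) = t c k := by
      interval_cases c <;> (revert k; intro k hk; simp only [cjQ, List.getD_cons_succ,
        List.getD_cons_zero, List.length_cons, List.length_nil] at hk; interval_cases k <;> rfl)
    rw [e]
    exact ht c k hc hk

/-- Lifts of the pc series with relators a multiple of the class of the certificate. -/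
theorem exists_lifts {eqs L combos dl : List ℕ} {v0 cF : ℕ} (heq : allEqs S G = eqs)
    (hd : deltaOk S dl = true) (hcert : certOk eqs L combos dl v0 cF = true) :
    ∃ (x : ℕ → E) (c : ZMod 2), (∀ a, M.f (x a) = serG a) ∧ ∀ a < 7, ∀ b ≤ a,
      x a * x b =
        M.ι (fun l => if v0.testBit (key a b * 11 + l.val) then c else 0) * P x (rep a b) := by
  obtain ⟨Y, hι, hY⟩ := M.exists_sys
  obtain ⟨x, c, hx, hrel⟩ := Y.exists_adjusted heq hd hcert
  refine ⟨x, c, fun a => ?_, fun a ha b hb => by rw [← hι]; exact hrel a ha b hb⟩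
  obtain ⟨v, hv⟩ := hx a
  rw [hv, map_mul, hY, (M.ker _).mpr ⟨v, by rw [hι]⟩, one_mul]

theorem isMulCommutative_ker : IsMulCommutative M.f.ker :=
  IsMulCommutative.of_comm fun ⟨a, ha⟩ ⟨b, hb⟩ => by
    obtain ⟨v, rfl⟩ := (M.ker a).mp ha
    obtain ⟨w, rfl⟩ := (M.ker b).mp hb
    exact Subtype.ext (by show M.ι v * M.ι w = M.ι w * M.ι v; rw [← M.add, ← M.add, add_comm])

theorem card_ker : Nat.card M.f.ker = 2 ^ 11 := by
  have h : Set.range M.ι = (M.f.ker : Set E) := Set.ext fun e => (M.ker e).symm
  rw [← SetLike.coe_sort_coe, ← h, Nat.card_range_of_injective M.inj]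
  simp

end Mod

end Cfsg.Agent.GolayExt
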