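/-
The module spanned by eleven words, inside the 24-point permutation module (owner: helper15).
-/
import Cfsg.Agent.Lib.GolayExt.Split

set_option autoImplicit false
open Cfsg
open scoped Pointwise
open Cfsg.Agent.Golay

namespace Cfsg.Agent.GolayExt

/-- The word with given coordinates in the span of `B`. -/
def comb (B : List ℕ) (v : Vec) : GolayPt → ZMod 2 :=
  ∑ k : Fin 11, v k • word (B.getD k.val 0)

theorem comb_add (B : List ℕ) (v w : Vec) : comb B (v + w) = comb B v + comb B w := by
  simp only [comb, Pi.add_apply, add_smul, Finset.sum_add_distrib]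

theorem comb_zero (B : List ℕ) : comb B 0 = 0 := by simp [comb]

theorem word_encAux : ∀ (B : List ℕ) (m n : ℕ), B.length ≤ n →
    word (encAux B m) = ∑ j ∈ Finset.range n,
      (if m.testBit j then (1 : ZMod 2) else 0) • word (B.getD j 0)
  | [], m, n, _ => by simp [encAux, word_zero]
  | g :: B, m, n, hn => by
    obtain ⟨k, rfl⟩ : ∃ k, n = k + 1 := ⟨n - 1, by simp at hn; omega⟩
    have ih := word_encAux B (m / 2) k (by simpa using hn)
    rw [Finset.sum_range_succ', encAux, word_xor]
    simp only [List.getD_cons_succ, List.getD_cons_zero, Nat.testBit_succ, ← ih, Nat.testBit_zero]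
    rcases Nat.mod_two_eq_zero_or_one m with h | h <;> simp [h, word_zero, add_comm]

/-- The vector of a mask. -/
def vecOf (m : ℕ) : Vec := fun k => if m.testBit k.val then 1 else 0

theorem comb_vecOf {B : List ℕ} (hB : B.length ≤ 11) (m : ℕ) :
    comb B (vecOf m) = word (encAux B m) := by
  rw [word_encAux B m 11 hB, Finset.sum_range]
  rfl

theorem exists_vecOf (v : Vec) : ∃ m < 2048, vecOf m = v := by
  refine ⟨Nat.ofBits fun k : Fin 11 => decide (v k = 1), Nat.ofBits_lt_two_pow _, funext fun k => ?_⟩
  rw [vecOf, Nat.testBit_ofBits_lt _ _ k.isLt]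
  rcases (by decide : ∀ x : ZMod 2, x = 0 ∨ x = 1) (v k) with h | h <;> simp [h]

theorem word_comp {d : ℕ} (hd : validPerm d = true) (m : ℕ) :
    word m ∘ ⇑((toPerm d)⁻¹ : Equiv.Perm GolayPt) = word (imgMask d m) := by
  refine eq_of_support₂_eq ?_
  rw [support₂_word, pts_imgMask hd]
  ext p
  rw [← Finset.inv_smul_mem_iff, Equiv.Perm.smul_def, ← support₂_word m]
  simp [support₂]

theorem comb_comp (B : List ℕ) (v : Vec) (σ : GolayPt → GolayPt) :
    comb B v ∘ σ = ∑ k : Fin 11, v k • (word (B.getD k.val 0) ∘ σ) := by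
  funext p
  simp [comb, Finset.sum_apply]

/-- A matrix table: `M` gives the action of the permutation coded by `d` modulo `good`. -/
def actOk (good : ℕ → Bool) (B : List ℕ) (d : ℕ) (M : List ℕ) : Bool :=
  Nat.ble B.length 11 &&
    (List.range 11).all fun k => good (imgMask d (B.getD k 0) ^^^ encAux B (M.getD k 0))

theorem comb_act {V : Type*} [AddCommGroup V] (θ : (GolayPt → ZMod 2) →+ V) {good : ℕ → Bool}
    (hgood : ∀ m, good m = true → θ (word m) = 0) {B : List ℕ} {d : ℕ} {M : List ℕ}
    (hd : validPerm d = true) (h : actOk good B d M = true) (v : Vec) :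
    θ (comb B v ∘ ⇑((toPerm d)⁻¹ : Equiv.Perm GolayPt)) = θ (comb B (act M v)) := by
  simp only [actOk, Bool.and_eq_true, Nat.ble_eq, List.all_eq_true, List.mem_range] at h
  obtain ⟨hB, hk⟩ := h
  have h1 : comb B (act M v) = ∑ k : Fin 11, v k • word (encAux B (M.getD k.val 0)) := by
    simp only [comb, act, Finset.sum_smul]
    rw [Finset.sum_comm]
    refine Finset.sum_congr rfl fun k _ => ?_
    rw [← comb_vecOf hB, comb, Finset.smul_sum]
    refine Finset.sum_congr rfl fun l _ => ?_
    rw [smul_smul, vecOf]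
    split <;> simp
  rw [h1, comb_comp, map_sum, map_sum]
  refine Finset.sum_congr rfl fun k _ => ?_
  rw [word_comp hd]
  rcases (by decide : ∀ x : ZMod 2, x = 0 ∨ x = 1) (v k) with hv | hv
  · simp [hv]
  · simp only [hv, one_smul]
    have h2 := hgood _ (hk k.val k.isLt)
    rw [word_xor, map_add] at h2
    have h3 : θ (word (encAux B (M.getD k.val 0))) + θ (word (encAux B (M.getD k.val 0))) = 0 := by
      rw [← map_add, ← word_xor, Nat.xor_self, word_zero, map_zero]
    calc θ (word (imgMask d (B.getD k.val 0)))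
        = θ (word (imgMask d (B.getD k.val 0))) + (θ (word (encAux B (M.getD k.val 0))) +
            θ (word (encAux B (M.getD k.val 0)))) := by rw [h3, add_zero]
      _ = θ (word (encAux B (M.getD k.val 0))) := by rw [← add_assoc, h2, zero_add]

end Cfsg.Agent.GolayExt
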