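/-
The certificate for extensions of M23 by its cocode module (owner: helper15): at most one
nonzero class.
-/
import Cfsg.Agent.Lib.GolayExt.Module

set_option autoImplicit false
open Cfsg
open Cfsg.Agent.Golay

namespace Cfsg.Agent.GolayExt

set_option maxHeartbeats 0 in
theorem coc_eqs : allEqs cocSM cocGM = cocEqs := by decide +kernel

theorem coc_delta : deltaOk cocSM cocDelta = true := by decide +kernel

theorem coc_cert0 : certPart cocEqs cocL cocCombos cocDelta cocV0 cocCF 0 = true := by decide +kernel

theorem coc_cert1 : certPart cocEqs cocL cocCombos cocDelta cocV0 cocCF 1 = true := by decide +kernel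

theorem coc_cert2 : certPart cocEqs cocL cocCombos cocDelta cocV0 cocCF 2 = true := by decide +kernel

theorem coc_cert3 : certPart cocEqs cocL cocCombos cocDelta cocV0 cocCF 3 = true := by decide +kernel

theorem coc_cert4 : certPart cocEqs cocL cocCombos cocDelta cocV0 cocCF 4 = true := by decide +kernel

theorem coc_cert5 : certPart cocEqs cocL cocCombos cocDelta cocV0 cocCF 5 = true := by decide +kernel

theorem coc_cert6 : certPart cocEqs cocL cocCombos cocDelta cocV0 cocCF 6 = true := by decide +kernel

theorem coc_cert7 : certPart cocEqs cocL cocCombos cocDelta cocV0 cocCF 7 = true := by decide +kernel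

theorem coc_cert8 : certPart cocEqs cocL cocCombos cocDelta cocV0 cocCF 8 = true := by decide +kernel

theorem coc_cert9 : certPart cocEqs cocL cocCombos cocDelta cocV0 cocCF 9 = true := by decide +kernel

theorem coc_cert10 : certPart cocEqs cocL cocCombos cocDelta cocV0 cocCF 10 = true := by decide +kernel

theorem coc_cert : certOk cocEqs cocL cocCombos cocDelta cocV0 cocCF = true :=
  certOk_of_parts (by decide +kernel) fun b hb =>
    match b, hb with
    | 0, _ => coc_cert0
    | 1, _ => coc_cert1
    | 2, _ => coc_cert2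
    | 3, _ => coc_cert3
    | 4, _ => coc_cert4
    | 5, _ => coc_cert5
    | 6, _ => coc_cert6
    | 7, _ => coc_cert7
    | 8, _ => coc_cert8
    | 9, _ => coc_cert9
    | 10, _ => coc_cert10
    | k + 11, h => absurd h (Nat.not_lt.2 (Nat.le_add_left 11 k))

/-- The basis of the cocode module. -/
def cocB : List ℕ := cocP.map fun p => 1 <<< p

/-- Masks of words in the kernel. -/
def cocKer (m : ℕ) : Bool := isCode m || isCode (m ^^^ 8388608)

theorem word_single : word 8388608 = Pi.single none 1 := by decide +kernel

theorem mem_of_cocKer {m : ℕ} (h : cocKer m = true) :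
    word m ∈ golayCode ∨ word m + Pi.single none 1 ∈ golayCode := by
  rw [cocKer, Bool.or_eq_true] at h
  rcases h with h | h
  · exact Or.inl ((word_mem_golayCode_iff (lt_of_isCode h)).mpr h)
  · refine Or.inr ?_
    rw [← word_single, ← word_xor]
    exact (word_mem_golayCode_iff (lt_of_isCode h)).mpr h

theorem coc_matrices : (∀ a < 7, actOk cocKer cocB (serC.getD a idCode)
      (cocSM.getD a []) = true) ∧
    ∀ c < 4, actOk cocKer cocB (cjN c) (cocGM.getD c []) = true := by
  decide +kernel

theorem cocB_lt : cocB.length ≤ 11 ∧ ∀ g ∈ cocB, g < 2 ^ 24 := by decide +kernel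

theorem eq_zero_of_comb_cocB {v : Vec}
    (h : comb cocB v ∈ golayCode ∨ comb cocB v + Pi.single none 1 ∈ golayCode) : v = 0 := by
  obtain ⟨m, hm, rfl⟩ := exists_vecOf v
  rw [comb_vecOf cocB_lt.1] at h
  have hlt := encAux_lt cocB 24 cocB_lt.2 m
  have hb : allBits (fun m => m == 0 || !cocKer (encAux cocB m)) 11 0 = true := by decide +kernel
  have hp := forall_lt_two_pow hb (k := 11) hm
  have hk : cocKer (encAux cocB m) = true := by
    rw [cocKer, Bool.or_eq_true]
    rcases h with h | h
    · exact Or.inl ((word_mem_golayCode_iff hlt).mp h)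
    · rw [← word_single, ← word_xor] at h
      exact Or.inr ((word_mem_golayCode_iff (Nat.xor_lt_two_pow hlt (by norm_num))).mp h)
  simp only [hk, Bool.not_true, Bool.or_false, beq_iff_eq] at hp
  subst hp
  funext k
  simp [vecOf]

/-- Some kernel representative of each point. -/
def cocCover : Bool :=
  (List.range 24).all fun i =>
    cocKer ((1 <<< i) ^^^ encAux cocB (([1141, 1183, 1355, 1763, 435, 870, 1740, 493, 986, 1972, 797, 1594, 1, 2, 4, 8, 16, 32, 64, 128, 256, 512, 1024, 0] : List ℕ).getD i 0))

theorem cocCover_true : cocCover = true := by decide +kernel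

theorem exists_comb_cocB {V : Type*} [AddCommGroup V] (θ : (GolayPt → ZMod 2) →+ V)
    (hker : ∀ w, (w ∈ golayCode ∨ w + Pi.single none 1 ∈ golayCode) → θ w = 0)
    (w : GolayPt → ZMod 2) : ∃ v, θ (comb cocB v) = θ w := by
  have hone : ∀ (p : GolayPt) (c : ZMod 2), ∃ v, θ (comb cocB v) = θ (Pi.single p c) := by
    intro p c
    rcases (by decide : ∀ x : ZMod 2, x = 0 ∨ x = 1) c with rfl | rfl
    · exact ⟨0, by rw [comb_zero, Pi.single_zero]⟩
    have h := cocCover_true
    simp only [cocCover, List.all_eq_true, List.mem_range] at h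
    obtain ⟨m, hm⟩ : ∃ m, cocKer ((1 <<< idx p) ^^^ encAux cocB m) = true :=
      ⟨_, h (idx p) (idx_lt p)⟩
    have hz := hker _ (mem_of_cocKer hm)
    have he : word (1 <<< idx p) = Pi.single p 1 := by
      funext q
      by_cases hq : q = p
      · subst hq; simp [word, Nat.one_shiftLeft]
      · have hne : idx p ≠ idx q := fun e => hq (idx_injective e).symm
        rw [Pi.single_eq_of_ne hq, word, Nat.one_shiftLeft, Nat.testBit_two_pow]
        simp [hne]
    rw [word_xor, map_add, he] at hz
    have h2 : θ (word (encAux cocB m)) + θ (word (encAux cocB m)) = 0 := by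
      rw [← map_add, ← word_xor, Nat.xor_self, word_zero, map_zero]
    refine ⟨vecOf m, ?_⟩
    rw [comb_vecOf cocB_lt.1]
    calc θ (word (encAux cocB m))
        = (θ (Pi.single p 1) + θ (word (encAux cocB m))) + θ (word (encAux cocB m)) := by
          rw [hz, zero_add]
      _ = θ (Pi.single p 1) := by rw [add_assoc, h2, add_zero]
  rw [← Finset.univ_sum_single w]
  choose v hv using fun p => hone p (w p)
  refine ⟨∑ p, v p, ?_⟩
  have hsum : comb cocB (∑ p, v p) = ∑ p, comb cocB (v p) :=
    map_sum (AddMonoidHom.mk' (comb cocB) (comb_add cocB)) v Finset.univ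
  rw [hsum, map_sum, map_sum]
  exact Finset.sum_congr rfl fun p _ => hv p

end Cfsg.Agent.GolayExt
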