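/-
The certificate for extensions of M23 by the code words vanishing at the extra point
(owner: helper15): no nonzero class.
-/
import Cfsg.Agent.Lib.GolayExt.Module

set_option autoImplicit false
open Cfsg
open Cfsg.Agent.Golay

namespace Cfsg.Agent.GolayExt

set_option maxHeartbeats 0 in
theorem code_eqs : allEqs codeSM codeGM = codeEqs := by decide +kernel

theorem code_delta : deltaOk codeSM codeDelta = true := by decide +kernel

theorem code_cert0 : certPart codeEqs codeL codeCombos codeDelta codeV0 codeCF 0 = true := by decide +kernel

theorem code_cert1 : certPart codeEqs codeL codeCombos codeDelta codeV0 codeCF 1 = true := by decide +kernel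

theorem code_cert2 : certPart codeEqs codeL codeCombos codeDelta codeV0 codeCF 2 = true := by decide +kernel

theorem code_cert3 : certPart codeEqs codeL codeCombos codeDelta codeV0 codeCF 3 = true := by decide +kernel

theorem code_cert4 : certPart codeEqs codeL codeCombos codeDelta codeV0 codeCF 4 = true := by decide +kernel

theorem code_cert5 : certPart codeEqs codeL codeCombos codeDelta codeV0 codeCF 5 = true := by decide +kernel

theorem code_cert6 : certPart codeEqs codeL codeCombos codeDelta codeV0 codeCF 6 = true := by decide +kernel

theorem code_cert7 : certPart codeEqs codeL codeCombos codeDelta codeV0 codeCF 7 = true := by decide +kernel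

theorem code_cert8 : certPart codeEqs codeL codeCombos codeDelta codeV0 codeCF 8 = true := by decide +kernel

theorem code_cert9 : certPart codeEqs codeL codeCombos codeDelta codeV0 codeCF 9 = true := by decide +kernel

theorem code_cert10 : certPart codeEqs codeL codeCombos codeDelta codeV0 codeCF 10 = true := by decide +kernel

theorem code_cert : certOk codeEqs codeL codeCombos codeDelta codeV0 codeCF = true :=
  certOk_of_parts (by decide +kernel) fun b hb =>
    match b, hb with
    | 0, _ => code_cert0
    | 1, _ => code_cert1
    | 2, _ => code_cert2
    | 3, _ => code_cert3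
    | 4, _ => code_cert4
    | 5, _ => code_cert5
    | 6, _ => code_cert6
    | 7, _ => code_cert7
    | 8, _ => code_cert8
    | 9, _ => code_cert9
    | 10, _ => code_cert10
    | k + 11, h => absurd h (Nat.not_lt.2 (Nat.le_add_left 11 k))

theorem code_matrices : (∀ a < 7, actOk (fun m => m == 0) codeB (serC.getD a idCode)
      (codeSM.getD a []) = true) ∧
    ∀ c < 4, actOk (fun m => m == 0) codeB (cjN c) (codeGM.getD c []) = true := by
  decide +kernel

theorem codeB_mem : ∀ k < 11, isCode (codeB.getD k 0) = true ∧
    (codeB.getD k 0).testBit 23 = false := by decide +kernel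

theorem comb_codeB_mem (v : Vec) : comb codeB v ∈ golayCode ∧ comb codeB v none = 0 := by
  refine ⟨Submodule.sum_mem _ fun k _ => Submodule.smul_mem _ _ ?_, ?_⟩
  · exact (word_mem_golayCode_iff (lt_of_isCode (codeB_mem k.val k.isLt).1)).mpr
      (codeB_mem k.val k.isLt).1
  · simp only [comb, Finset.sum_apply, Pi.smul_apply, word]
    refine Finset.sum_eq_zero fun k _ => ?_
    rw [show idx none = 23 from rfl, (codeB_mem k.val k.isLt).2]
    simp

theorem exists_comb_codeB {w : GolayPt → ZMod 2} (hw : w ∈ golayCode) (h0 : w none = 0) :
    ∃ v, comb codeB v = w := by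
  obtain ⟨x, -, rfl⟩ := mem_golayCode_iff.mp hw
  have h : allSpan (fun m => m.testBit 23 || encAux codeB (m % 2048) == m) rows 0 = true := by
    decide +kernel
  have hx := allSpan_rows h x
  have h23 : (enc x).testBit 23 = false := by
    by_contra h
    rw [Bool.not_eq_false] at h
    simp [word, idx, h] at h0
  simp only [h23, Bool.false_or, beq_iff_eq] at hx
  exact ⟨vecOf (enc x % 2048), by rw [comb_vecOf (by decide), hx]⟩

theorem comb_codeB_coord (v : Vec) (k : Fin 11) : comb codeB v (pt k.val) = v k := by
  have h : ∀ j k : Fin 11, word (codeB.getD j.val 0) (pt k.val) = if j = k then 1 else 0 := by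
    decide +kernel
  simp only [comb, Finset.sum_apply, Pi.smul_apply, h]
  simp

end Cfsg.Agent.GolayExt
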