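/-
Two extensions of M23 by the cocode module with the same relators are isomorphic
(owner: helper15): a complement in the fibred product modulo the diagonal is the graph of an
isomorphism.
-/
import Cfsg.Agent.Lib.GolayExt.Cocode

set_option autoImplicit false
open Cfsg
open Cfsg.Agent.Golay

namespace Cfsg.Agent.GolayExt

/-- The kernel of the projection onto the cocode module. -/
def cocK : AddSubgroup (GolayPt → ZMod 2) where
  carrier := {w | w ∈ golayCode ∨ w + Pi.single none 1 ∈ golayCode}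
  zero_mem' := Or.inl (zero_mem _)
  add_mem' := by
    rintro a b (ha | ha) (hb | hb)
    · exact Or.inl (add_mem ha hb)
    · exact Or.inr (by rw [add_assoc]; exact add_mem ha hb)
    · exact Or.inr (by rw [add_right_comm]; exact add_mem ha hb)
    · refine Or.inl ?_
      have h := add_mem ha hb
      rwa [add_add_add_comm, show (Pi.single none 1 + Pi.single none 1 : GolayPt → ZMod 2) = 0 from
        funext fun _ => zmod2_add_self _, add_zero] at h
  neg_mem' := fun {a} ha => by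
    rwa [show -a = a from funext fun p => (by decide : ∀ x : ZMod 2, -x = x) (a p)]

theorem add_mem_cocK {a b : GolayPt → ZMod 2}
    (h : QuotientAddGroup.mk' cocK a = QuotientAddGroup.mk' cocK b) :
    a + b ∈ golayCode ∨ a + b + Pi.single none 1 ∈ golayCode := by
  have h' := QuotientAddGroup.eq.mp h
  rw [show -a = a from funext fun p => (by decide : ∀ x : ZMod 2, -x = x) (a p)] at h'
  exact h'

/-- `w` is the image of `v` under the permutation `g` in the cocode module. -/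
def Rel (g : ↥Spor.M23) (v w : Vec) : Prop :=
  comb cocB w + comb cocB v ∘ ⇑((g : Equiv.Perm GolayPt)⁻¹) ∈ golayCode ∨
    comb cocB w + comb cocB v ∘ ⇑((g : Equiv.Perm GolayPt)⁻¹) + Pi.single none 1 ∈ golayCode

/-- An extension by the cocode module, in coordinates. -/
theorem exists_coc_mod {E : Type*} [Group E] (N : Subgroup E) [N.Normal]
    (φ : E ⧸ N ≃* ↥Spor.M23) (θ : (GolayPt → ZMod 2) →+ Additive ↥N)
    (hsurj : Function.Surjective θ)
    (hker : ∀ w : GolayPt → ZMod 2,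
      θ w = 0 ↔ (w ∈ golayCode ∨ w + Pi.single none 1 ∈ golayCode))
    (hθ : ∀ (g : E) (w : GolayPt → ZMod 2),
      ((θ (w ∘ ⇑(((φ (QuotientGroup.mk g) : ↥Spor.M23) : Equiv.Perm GolayPt)⁻¹))).toMul : E)
        = g * ((θ w).toMul : E) * g⁻¹) :
    ∃ M : Mod cocSM cocGM E, M.f.ker = N ∧
      (∀ g v w, Rel g v w → ∀ e, M.f e = g → e * M.ι v * e⁻¹ = M.ι w) ∧
      ∀ g v, ∃ w, Rel g v w := by
  classical
  let f : E →* ↥Spor.M23 := φ.toMonoidHom.comp (QuotientGroup.mk' N)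
  have hf1 : ∀ e, f e = 1 ↔ e ∈ N := fun e => by simp [f, QuotientGroup.eq_one_iff]
  let ι : Vec → E := fun v => (((θ (comb cocB v)).toMul : ↥N) : E)
  have hself : ∀ w : GolayPt → ZMod 2, θ w + θ w = 0 := fun w => by
    rw [← map_add, show w + w = 0 from funext fun _ => zmod2_add_self _, map_zero]
  have heq : ∀ a b : GolayPt → ZMod 2, θ (a + b) = 0 → θ a = θ b := by
    intro a b h
    calc θ a = θ a + (θ b + θ b) := by rw [hself, add_zero]
      _ = θ b := by rw [← add_assoc, ← map_add, h, zero_add]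
  have hrel : ∀ g v w, Rel g v w → ∀ e, f e = g → e * ι v * e⁻¹ = ι w := by
    intro g v w hw e he
    have h1 := heq _ _ ((hker _).mpr hw)
    have h2 := hθ e (comb cocB v)
    subst he
    show e * ((θ (comb cocB v)).toMul : E) * e⁻¹ = ((θ (comb cocB w)).toMul : E)
    rw [h1]
    exact h2.symm
  have hex : ∀ g v, ∃ w, Rel g v w := by
    intro g v
    obtain ⟨w, hw⟩ := exists_comb_cocB (QuotientAddGroup.mk' cocK)
      (fun w h => (QuotientAddGroup.eq_zero_iff w).mpr h)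
      (comb cocB v ∘ ⇑((g : Equiv.Perm GolayPt)⁻¹))
    exact ⟨w, add_mem_cocK hw⟩
  have hact : ∀ (d : ℕ) (m : List ℕ) (hd : validPerm d = true),
      actOk cocKer cocB d m = true →
      ∀ e, ((f e : ↥Spor.M23) : Equiv.Perm GolayPt) = toPerm d → ∀ v,
        e * ι v * e⁻¹ = ι (act m v) := by
    intro d m hd hok e he v
    refine hrel (f e) v (act m v) (add_mem_cocK ?_) e rfl
    rw [he]
    exact (comb_act (QuotientAddGroup.mk' cocK)
      (fun x hx => (QuotientAddGroup.eq_zero_iff _).mpr (mem_of_cocKer hx)) hd hok v).symm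
  refine ⟨{
    ι := ι
    add := fun v w => by
      show ((θ (comb cocB (v + w))).toMul : E) = _
      rw [comb_add, map_add]
      rfl
    inj := fun v w h => ?_
    f := f
    surj := φ.surjective.comp (QuotientGroup.mk'_surjective N)
    ker := fun e => (hf1 e).trans ⟨fun he => ?_, ?_⟩
    actS := fun a e he v => ?_
    actG := fun c hc e he v => ?_ }, ?_, hrel, hex⟩
  · have e : θ (comb cocB v) = θ (comb cocB w) := Additive.toMul.injective (Subtype.ext h)
    have h2 : v + w = 0 := eq_zero_of_comb_cocB ((hker _).mp (by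
      rw [comb_add, map_add, e, hself]))
    funext k
    exact zmod2_eq_of_add (congrFun h2 k)
  · obtain ⟨w, hw⟩ := hsurj (Additive.ofMul ⟨e, he⟩)
    obtain ⟨v, hv⟩ := exists_comb_cocB (QuotientAddGroup.mk' cocK)
      (fun w h => (QuotientAddGroup.eq_zero_iff w).mpr h) w
    replace hv := heq _ _ ((hker _).mpr (add_mem_cocK hv))
    refine ⟨v, ?_⟩
    show ((θ (comb cocB v)).toMul : E) = e
    rw [hv, hw]
    rfl
  · rintro ⟨v, rfl⟩
    exact SetLike.coe_mem _
  · refine hact _ _ (validPerm_of_isAut (Bool.and_eq_true_iff.mp (inM23_serN a)).1) ?_ e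
      (by rw [he]; rfl) v
    exact coc_matrices.1 (a % 7) (Nat.mod_lt _ (by norm_num))
  · exact hact _ _ (validPerm_of_isAut (Bool.and_eq_true_iff.mp (inM23_cjN c hc)).1)
      (coc_matrices.2 c hc) e (by rw [he, cjG_val hc]) v
  · ext e
    exact hf1 e

variable {S G : List (List ℕ)} {E : Type*} [Group E] {E' : Type*} [Group E']
  (M : Mod S G E) (M' : Mod S G E')

/-- Same relators, same action: isomorphic. -/
theorem iso_of_relators [Finite E] [Finite E'] (R : ℕ → ℕ → Vec)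
    (hact : ∀ (g : ↥Spor.M23) (v : Vec), ∃ w, (∀ e, M.f e = g → e * M.ι v * e⁻¹ = M.ι w) ∧
      ∀ e, M'.f e = g → e * M'.ι v * e⁻¹ = M'.ι w)
    (x : ℕ → E) (hx : ∀ a, M.f (x a) = serG a)
    (hr : ∀ a < 7, ∀ b ≤ a, x a * x b = M.ι (R a b) * P x (rep a b))
    (x' : ℕ → E') (hx' : ∀ a, M'.f (x' a) = serG a)
    (hr' : ∀ a < 7, ∀ b ≤ a, x' a * x' b = M'.ι (R a b) * P x' (rep a b)) :
    Nonempty (E ≃* E') := by
  classical
  have hι0 : M.ι 0 = 1 := by simpa using M.add 0 0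
  have hι0' : M'.ι 0 = 1 := by simpa using M'.add 0 0
  have hneg : ∀ v : Vec, v + v = 0 := fun v => funext fun _ => zmod2_add_self _
  have hinv : ∀ v, (M.ι v)⁻¹ = M.ι v := fun v =>
    inv_eq_of_mul_eq_one_left (by rw [← M.add, hneg, hι0])
  have hinv' : ∀ v, (M'.ι v)⁻¹ = M'.ι v := fun v =>
    inv_eq_of_mul_eq_one_left (by rw [← M'.add, hneg, hι0'])
  have hfι : ∀ v, M.f (M.ι v) = 1 := fun v => (M.ker _).mpr ⟨v, rfl⟩
  have hfι' : ∀ v, M'.f (M'.ι v) = 1 := fun v => (M'.ker _).mpr ⟨v, rfl⟩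
  let D : Subgroup (E × E') :=
    { carrier := {p | M.f p.1 = M'.f p.2}
      one_mem' := by simp
      mul_mem' := fun {p q} (hp : M.f p.1 = M'.f p.2) (hq : M.f q.1 = M'.f q.2) => by
        show M.f (p * q).1 = M'.f (p * q).2
        simp [map_mul, hp, hq]
      inv_mem' := fun {p} (hp : M.f p.1 = M'.f p.2) => by
        show M.f p⁻¹.1 = M'.f p⁻¹.2
        simp [hp] }
  let Δ : Subgroup ↥D :=
    { carrier := {d | ∃ v, d.1 = (M.ι v, M'.ι v)}
      one_mem' := ⟨0, by rw [hι0, hι0']; rfl⟩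
      mul_mem' := by
        rintro p q ⟨v, hv⟩ ⟨w, hw⟩
        exact ⟨v + w, by rw [Subgroup.coe_mul, hv, hw, Prod.mk_mul_mk, M.add, M'.add]⟩
      inv_mem' := by
        rintro p ⟨v, hv⟩
        exact ⟨v, by rw [Subgroup.coe_inv, hv, Prod.inv_mk, hinv, hinv']⟩ }
  have hΔn : Δ.Normal := ⟨by
    rintro p ⟨v, hv⟩ q
    obtain ⟨w, hw, hw'⟩ := hact (M.f q.1.1) v
    refine ⟨w, ?_⟩
    rw [Subgroup.coe_mul, Subgroup.coe_mul, Subgroup.coe_inv, hv]
    exact Prod.ext (hw _ rfl) (hw' _ q.2.symm)⟩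
  let fD : ↥D →* ↥Spor.M23 := M.f.comp ((MonoidHom.fst E E').comp D.subtype)
  have hΔle : Δ ≤ fD.ker := by
    rintro p ⟨v, hv⟩
    show M.f p.1.1 = 1
    rw [hv]
    exact hfι v
  let g : ↥D ⧸ Δ →* ↥Spor.M23 := QuotientGroup.lift Δ fD hΔle
  have hg : Function.Surjective g := by
    intro s
    obtain ⟨e, he⟩ := M.surj s
    obtain ⟨e', he'⟩ := M'.surj s
    exact ⟨QuotientGroup.mk ⟨(e, e'), he.trans he'.symm⟩, he⟩
  have hgker : ∀ q, g q = 1 → ∃ v, ∃ h : (M.ι v, (1 : E')) ∈ D,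
      q = QuotientGroup.mk (⟨(M.ι v, 1), h⟩ : ↥D) := by
    intro q hq
    obtain ⟨⟨⟨e, e'⟩, hd⟩, rfl⟩ := QuotientGroup.mk_surjective q
    replace hq : M.f e = 1 := hq
    have hd' : M'.f e' = 1 := hd.symm.trans hq
    obtain ⟨v, rfl⟩ := (M.ker e).mp hq
    obtain ⟨w, rfl⟩ := (M'.ker e').mp hd'
    refine ⟨v + w, (hfι _).trans (map_one _).symm, QuotientGroup.eq.mpr ⟨w, ?_⟩⟩
    show ((M.ι v, M'.ι w)⁻¹ * (M.ι (v + w), (1 : E')) : E × E') = _
    rw [Prod.inv_mk, Prod.mk_mul_mk, hinv, hinv', mul_one, ← M.add, ← add_assoc, hneg, zero_add]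
  have hK : IsMulCommutative g.ker := IsMulCommutative.of_comm fun a b => by
    obtain ⟨v, hv, ha⟩ := hgker a.1 a.2
    obtain ⟨w, hw, hb⟩ := hgker b.1 b.2
    apply Subtype.ext
    rw [Subgroup.coe_mul, Subgroup.coe_mul, ha, hb, ← QuotientGroup.mk_mul, ← QuotientGroup.mk_mul]
    congr 1
    refine Subtype.ext ?_
    show ((M.ι v, 1) * (M.ι w, 1) : E × E') = (M.ι w, 1) * (M.ι v, 1)
    rw [Prod.mk_mul_mk, Prod.mk_mul_mk, ← M.add, ← M.add, add_comm]
  have h2 : ∃ k, Nat.card g.ker = 2 ^ k := by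
    let ψ : Multiplicative Vec →* g.ker :=
      { toFun := fun v => ⟨QuotientGroup.mk
          (⟨(M.ι v.toAdd, 1), (hfι _).trans (map_one _).symm⟩ : ↥D), hfι _⟩
        map_one' := Subtype.ext (by
          show QuotientGroup.mk _ = 1
          rw [← QuotientGroup.mk_one]
          congr 1
          exact Subtype.ext (Prod.ext hι0 rfl))
        map_mul' := fun v w => Subtype.ext (by
          show QuotientGroup.mk _ = QuotientGroup.mk _ * QuotientGroup.mk _
          rw [← QuotientGroup.mk_mul]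
          congr 1
          exact Subtype.ext (Prod.ext (M.add _ _) (one_mul _).symm)) }
    have hψ : Function.Surjective ψ := by
      intro a
      obtain ⟨v, hv, ha⟩ := hgker a.1 a.2
      exact ⟨Multiplicative.ofAdd v, Subtype.ext ha.symm⟩
    have hd := Subgroup.card_dvd_of_surjective ψ hψ
    have hc : Nat.card (Multiplicative Vec) = 2 ^ 11 := by
      rw [Nat.card_congr Multiplicative.toAdd]; simp
    rw [hc] at hd
    obtain ⟨k, -, hk⟩ := (Nat.dvd_prime_pow Nat.prime_two).mp hd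
    exact ⟨k, hk⟩
  let X : ℕ → ↥D := fun a => ⟨(x a, x' a), (hx a).trans (hx' a).symm⟩
  have hP : ∀ w, (P X w).1 = (P x w, P x' w) := fun w => Prod.ext
    (map_P ((MonoidHom.fst E E').comp D.subtype) X x (fun _ => rfl) w)
    (map_P ((MonoidHom.snd E E').comp D.subtype) X x' (fun _ => rfl) w)
  obtain ⟨H, hH1, hH2⟩ := complement_of_rels g hg hK h2 (fun a => QuotientGroup.mk (X a))
    (fun a => hx a) (by
      intro a ha b hb
      rw [← map_P (QuotientGroup.mk' Δ) X (fun a => QuotientGroup.mk (X a)) (fun _ => rfl)]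
      show (QuotientGroup.mk (X a * X b) : ↥D ⧸ Δ) = QuotientGroup.mk (P X (rep a b))
      refine (QuotientGroup.eq.mpr ?_).symm
      obtain ⟨w, hw, hw'⟩ := hact (M.f (P x (rep a b))⁻¹) (R a b)
      refine ⟨w, ?_⟩
      rw [Subgroup.coe_mul, Subgroup.coe_inv, Subgroup.coe_mul, hP]
      show ((P x (rep a b), P x' (rep a b))⁻¹ * ((x a, x' a) * (x b, x' b)) : E × E') = _
      rw [Prod.inv_mk, Prod.mk_mul_mk, Prod.mk_mul_mk, hr a ha b hb, hr' a ha b hb]
      refine Prod.ext ?_ ?_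
      · have := hw _ rfl
        rwa [inv_inv, mul_assoc] at this
      · have := hw' (P x' (rep a b))⁻¹ (by
          rw [map_inv, map_inv, map_P M.f x serG hx, map_P M'.f x' serG hx'])
        rwa [inv_inv, mul_assoc] at this)
  let Ht : Subgroup ↥D := H.comap (QuotientGroup.mk' Δ)
  have hΔH : ∀ d ∈ Δ, d ∈ Ht := fun d hd => by
    show QuotientGroup.mk d ∈ H
    rw [(QuotientGroup.eq_one_iff d).mpr hd]
    exact one_mem H
  have hcap : ∀ d ∈ Ht, M.f d.1.1 = 1 → d ∈ Δ := by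
    intro d hd hf
    refine (QuotientGroup.eq_one_iff d).mp ?_
    have : (QuotientGroup.mk d : ↥D ⧸ Δ) ∈ H ⊓ g.ker := ⟨hd, hf⟩
    rwa [hH1, Subgroup.mem_bot] at this
  have hcover : ∀ d : ↥D, ∃ h ∈ Ht, M.f (h⁻¹ * d).1.1 = 1 := by
    intro d
    have : (QuotientGroup.mk d : ↥D ⧸ Δ) ∈ H ⊔ g.ker := hH2 ▸ Subgroup.mem_top _
    obtain ⟨q, hq, k, hk, hqk⟩ := Subgroup.mem_sup_of_normal_right.mp this
    obtain ⟨h, rfl⟩ := QuotientGroup.mk_surjective q
    refine ⟨h, hq, ?_⟩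
    show g (QuotientGroup.mk (h⁻¹ * d)) = 1
    rw [QuotientGroup.mk_mul, QuotientGroup.mk_inv, ← hqk, inv_mul_cancel_left]
    exact hk
  let p₁ : ↥Ht →* E := ((MonoidHom.fst E E').comp D.subtype).comp Ht.subtype
  let p₂ : ↥Ht →* E' := ((MonoidHom.snd E E').comp D.subtype).comp Ht.subtype
  have hb₁ : Function.Bijective p₁ := by
    refine ⟨(injective_iff_map_eq_one p₁).mpr fun h hh => ?_, fun e => ?_⟩
    · obtain ⟨v, hv⟩ := hcap h.1 h.2 (by
        rw [show h.1.1.1 = 1 from hh, map_one])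
      have h0 : v = 0 := M.inj ((congrArg Prod.fst hv).symm.trans (hh.trans hι0.symm))
      subst h0
      exact Subtype.ext (Subtype.ext (by rw [hv, hι0, hι0']; rfl))
    · obtain ⟨e', he'⟩ := M'.surj (M.f e)
      obtain ⟨h, hh, hk⟩ := hcover ⟨(e, e'), he'.symm⟩
      obtain ⟨v, hv⟩ := (M.ker _).mp hk
      let δ : ↥D := ⟨(M.ι v, M'.ι v), (hfι v).trans (hfι' v).symm⟩
      refine ⟨⟨h * δ, mul_mem hh (hΔH δ ⟨v, rfl⟩)⟩, ?_⟩
      show h.1.1 * M.ι v = e
      rw [hv]
      exact mul_inv_cancel_left _ _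
  have hb₂ : Function.Bijective p₂ := by
    refine ⟨(injective_iff_map_eq_one p₂).mpr fun h hh => ?_, fun e' => ?_⟩
    · obtain ⟨v, hv⟩ := hcap h.1 h.2 (by
        rw [show M.f h.1.1.1 = M'.f h.1.1.2 from h.1.2, show h.1.1.2 = 1 from hh, map_one])
      have h0 : v = 0 := M'.inj ((congrArg Prod.snd hv).symm.trans (hh.trans hι0'.symm))
      subst h0
      exact Subtype.ext (Subtype.ext (by rw [hv, hι0, hι0']; rfl))
    · obtain ⟨e, he⟩ := M.surj (M'.f e')
      obtain ⟨h, hh, hk⟩ := hcover ⟨(e, e'), he⟩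
      obtain ⟨v, hv⟩ := (M'.ker _).mp ((h⁻¹ * (⟨(e, e'), he⟩ : ↥D)).2.symm.trans hk)
      let δ : ↥D := ⟨(M.ι v, M'.ι v), (hfι v).trans (hfι' v).symm⟩
      refine ⟨⟨h * δ, mul_mem hh (hΔH δ ⟨v, rfl⟩)⟩, ?_⟩
      show h.1.2 * M'.ι v = e'
      rw [hv]
      exact mul_inv_cancel_left _ _
  exact ⟨(MulEquiv.ofBijective p₁ hb₁).symm.trans (MulEquiv.ofBijective p₂ hb₂)⟩

end Cfsg.Agent.GolayExt
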